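import Groth.Agent.PicLimLib.Descend
import Groth.Agent.PropPi1.LimBC
import Groth.Agent.NormHomLib.FinLocFree
import Groth.Agent.NormHomLib.Ample
import Groth.Agent.PerfSchLib.Maps
import Groth.Agent.AmpleLib.Separated
import Groth.Agent.AmpleLib.Pullback
import Groth.Agent.S9223

/-!
Existence of an ample invertible module descends along extensions of the base field.
-/

set_option autoImplicit false
set_option backward.isDefEq.respectTransparency false
set_option linter.style.haveILetI false

universe u

open CategoryTheory CategoryTheory.Limits AlgebraicGeometry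

noncomputable section

namespace Groth.Agent.AmpleFieldLib

variable {k : Type u} [Field k] {X : Scheme.{u}} (a : X ⟶ Spec (CommRingCat.of k))

/-- Descent along a finite extension. -/
theorem exists_isAmple_of_finite (K : Type u) [Field K] [Algebra k K] [Module.Finite k K]
    {L : (pullback a (Spec.map (CommRingCat.ofHom (algebraMap k K)))).Modules} (hL : CohB1.IsAmple L) :
    ∃ M : X.Modules, CohB1.IsAmple M := by
  let j : Spec (CommRingCat.of K) ⟶ Spec (CommRingCat.of k) := Spec.map (CommRingCat.ofHom (algebraMap k K))
  haveI : IsFinite j := by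
    rw [IsFinite.SpecMap_iff]; exact RingHom.finite_algebraMap.2 inferInstance
  haveI : Flat j := (HasRingHomProperty.Spec_iff (P := @Flat)).2 (RingHom.flat_algebraMap_iff.2 inferInstance)
  haveI : LocallyOfFinitePresentation j := inferInstance
  haveI : IsFinite (pullback.fst a j) := MorphismProperty.pullback_fst _ _ inferInstance
  haveI : Flat (pullback.fst a j) := MorphismProperty.pullback_fst _ _ inferInstance
  haveI : LocallyOfFinitePresentation (pullback.fst a j) := MorphismProperty.pullback_fst _ _ inferInstance
  have hd : ∀ x : X, (pullback.fst a j).finrank x = Module.finrank k K := fun x => by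
    rw [Scheme.Hom.finrank_pullback_fst]
    refine (Scheme.Hom.finrank_SpecMap_algebraMap k K (a x)).trans ?_
    rw [Module.rankAtStalk_eq_finrank_of_free]
    rfl
  obtain ⟨N⟩ := NormHomLib.hasNorm_of_finLocFree (pullback.fst a j) (Module.finrank k K) Module.finrank_pos
    ⟨inferInstance, inferInstance, inferInstance⟩ fun x => (hd x).symm ▸ dvd_rfl
  exact NormHomLib.exists_isAmple_of_norm N hL

/-- Descent along an arbitrary extension. -/
theorem exists_isAmple_of_extension (K : Type u) [Field K] [Algebra k K]
    {L : (pullback a (Spec.map (CommRingCat.ofHom (algebraMap k K)))).Modules} (hL : CohB1.IsAmple L) :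
    ∃ M : X.Modules, CohB1.IsAmple M := by
  let g : Spec (CommRingCat.of K) ⟶ Spec (CommRingCat.of k) := Spec.map (CommRingCat.ofHom (algebraMap k K))
  haveI : Surjective g := ⟨fun y => ⟨IsLocalRing.closedPoint K, Subsingleton.elim (α := PrimeSpectrum k) _ _⟩⟩
  haveI : CompactSpace ↥(pullback a g) := hL.2.1
  haveI : QuasiSeparatedSpace ↥(pullback a g) := AmpleLib.quasiSeparatedSpace_of_isAmple hL
  haveI : Surjective (pullback.fst a g) := MorphismProperty.pullback_fst (P := @Surjective) _ _ inferInstance
  haveI : IsAffineHom (pullback.fst a g) := MorphismProperty.pullback_fst (P := @IsAffineHom) _ _ inferInstance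
  haveI : CompactSpace X := ⟨by
    rw [← (pullback.fst a g).surjective.range_eq]; exact isCompact_range (pullback.fst a g).continuous⟩
  haveI : QuasiSeparatedSpace X := by
    haveI : QuasiSeparated (pullback.fst a g ≫ terminal.from X) := by
      rw [terminal.comp_from]
      exact (quasiSeparatedSpace_iff_quasiSeparated _).1 inferInstance
    exact (quasiSeparatedSpace_iff_quasiSeparated _).2 (PerfSchLib.quasiSeparated_of_comp (pullback.fst a g) _)
  let Dg := PropPi1.bcDiag (PropPi1.fgToBase k K) a
  let c := PropPi1.bcCone (PropPi1.fgToBase k K) a (PropPi1.fgCone k K) g (PropPi1.fgCone_toBase k K)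
  obtain ⟨hc⟩ := PropPi1.nonempty_isLimit_bcCone (PropPi1.fgToBase k K) a (PropPi1.fgCone k K) g
    (PropPi1.fgCone_toBase k K) (PropPi1.isLimitFgCone k K)
  haveI haff : ∀ i, IsAffineHom (pullback.fst a ((PropPi1.fgToBase k K).app i)) := fun i => by
    haveI : IsAffineHom ((PropPi1.fgToBase k K).app i) := inferInstanceAs (IsAffineHom (Spec.map _))
    exact MorphismProperty.pullback_fst (P := @IsAffineHom) _ _ inferInstance
  haveI hcs : ∀ i, CompactSpace (Dg.obj i) := fun i =>
    haveI := haff i
    QuasiCompact.compactSpace_of_compactSpace (pullback.fst a ((PropPi1.fgToBase k K).app i))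
  haveI hqs : ∀ i, QuasiSeparatedSpace (Dg.obj i) := fun i =>
    haveI := haff i
    quasiSeparatedSpace_of_quasiSeparated (pullback.fst a ((PropPi1.fgToBase k K).app i))
  haveI hda : ∀ {i l : (PropPi1.FgIdx k K)ᵒᵖ} (φ : i ⟶ l), IsAffineHom (Dg.map φ) := fun φ => inferInstance
  obtain ⟨i, M, hM, ⟨e⟩⟩ := PicLimLib.exists_invertible_stage Dg c hc (L := L) hL.1
  obtain ⟨l, φ, hamp⟩ := S9223.result Dg c hc i M hM (AmpleLib.isAmple_of_iso e.symm hL)
  let S := l.unop.1
  haveI : Algebra.FiniteType k S := S.fg_iff_finiteType.1 l.unop.2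
  obtain ⟨m, hm⟩ := Ideal.exists_maximal S
  letI : Field (S ⧸ m) := Ideal.Quotient.field m
  haveI : Module.Finite k (S ⧸ m) := finite_of_finite_type_of_isJacobsonRing k (S ⧸ m)
  let j' : Spec (CommRingCat.of (S ⧸ m)) ⟶ Spec (CommRingCat.of k) :=
    Spec.map (CommRingCat.ofHom (algebraMap k (S ⧸ m)))
  let h : pullback a j' ⟶ pullback a ((PropPi1.fgToBase k K).app l) :=
    pullback.map _ _ _ _ (𝟙 X) (Spec.map (CommRingCat.ofHom (Ideal.Quotient.mk m))) (𝟙 _) (by simp)
      (by
        rw [Category.comp_id]
        refine Eq.trans ?_ (Spec.map_comp _ _)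
        exact congrArg Spec.map (by ext x; rfl))
  haveI : IsAffineHom h := by
    haveI : IsAffineHom (h ≫ pullback.fst a ((PropPi1.fgToBase k K).app l)) := by
      rw [pullback.lift_fst, Category.comp_id]
      exact MorphismProperty.pullback_fst (P := @IsAffineHom) _ _ inferInstance
    haveI := haff l
    exact MorphismProperty.of_postcomp @IsAffineHom (W' := @IsSeparated) h
      (pullback.fst a ((PropPi1.fgToBase k K).app l)) inferInstance inferInstance
  exact exists_isAmple_of_finite a (S ⧸ m) (AmpleLib.isAmple_pullback h hamp)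

end Groth.Agent.AmpleFieldLib
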